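import Cfsg.Agent.SylowLarge.Arith

/-!
# Sylow subgroups of linear groups for large primes
-/

set_option autoImplicit false
set_option linter.style.haveILetI false
set_option linter.unusedSectionVars false

noncomputable section

namespace Cfsg.Agent.SylowLarge

open Module

theorem sylow_equiv {G : Type*} [Group G] [Finite G] {r : ℕ} [Fact r.Prime] (P : Sylow r G)
    {a M : ℕ} (φ : (Fin a → Multiplicative (ZMod M)) →* G) (hφ : Function.Injective φ)
    (hM : Nat.card (Fin a → Multiplicative (ZMod M)) = r ^ padicValNat r (Nat.card G)) :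
    Nonempty (↥(P : Subgroup G) ≃* (Fin a → Multiplicative (ZMod M))) := by
  have hcard : Nat.card φ.range = r ^ (Nat.card G).factorization r := by
    rw [← Nat.card_congr (MonoidHom.ofInjective hφ).toEquiv, hM, Nat.factorization_def _ Fact.out]
  exact ⟨(Sylow.equiv P (Sylow.ofCard φ.range hcard)).trans (MonoidHom.ofInjective hφ).symm⟩

theorem card_pi_zmod {a r e : ℕ} :
    Nat.card (Fin a → Multiplicative (ZMod (r ^ e))) = r ^ (a * e) := by
  rw [Nat.card_fun, Nat.card_fin, Nat.card_congr Multiplicative.toAdd, Nat.card_zmod, ← pow_mul, mul_comm]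

/-- A cyclic subgroup of prescribed order. -/
theorem exists_zmod_hom_of_orderOf {G : Type*} [Group G] [Finite G] {M : ℕ} {g : G} (hg : M ∣ orderOf g) :
    ∃ f : Multiplicative (ZMod M) →* G, Function.Injective f := by
  obtain ⟨t, ht⟩ := hg
  have ht0 : t ≠ 0 := fun e => (orderOf_pos g).ne' (by rw [ht, e, mul_zero])
  have ho : orderOf (g ^ t) = M := by
    rw [orderOf_pow' g ht0, ht, Nat.gcd_eq_right (Dvd.intro_left _ rfl),
      Nat.mul_div_cancel _ (Nat.pos_of_ne_zero ht0)]
  have hc : Nat.card (Subgroup.zpowers (g ^ t)) = M := by rw [Nat.card_zpowers, ho]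
  subst hc
  exact ⟨(Subgroup.zpowers (g ^ t)).subtype.comp (zmodCyclicMulEquiv inferInstance).toMonoidHom,
    (Subgroup.subtype_injective _).comp (zmodCyclicMulEquiv inferInstance).injective⟩

theorem exists_zmod_hom_units {K : Type*} [Field K] [Finite K] {M : ℕ} (hM : M ∣ Nat.card K - 1) :
    ∃ f : Multiplicative (ZMod M) →* Kˣ, Function.Injective f := by
  obtain ⟨g, hg⟩ := IsCyclic.exists_ofOrder_eq_natCard (α := Kˣ)
  exact exists_zmod_hom_of_orderOf (g := g) (by rwa [hg, Nat.card_units])

/-- Componentwise extension of an injective homomorphism. -/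
theorem exists_pi_hom {G H : Type*} [Monoid G] [Monoid H] (f : G →* H) (hf : Function.Injective f) (a : ℕ) :
    ∃ F : (Fin a → G) →* (Fin a → H), Function.Injective F :=
  ⟨f.compLeft (Fin a), hf.comp_left⟩

variable {F : Type*} [Field F] [Fintype F] {r : ℕ} [Fact r.Prime]

theorem not_dvd_pow {q : ℕ} (hrq : ¬ r ∣ q) (i : ℕ) : ¬ r ∣ q ^ i :=
  fun h => hrq ((Fact.out : r.Prime).dvd_of_dvd_pow h)

theorem padicValNat_card_gl {n : ℕ} (hrn : n < r) (hrq : ¬ r ∣ Fintype.card F) :
    padicValNat r (Nat.card (GL (Fin n) F)) =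
      n / orderOf (Fintype.card F : ZMod r) * cycExp (Fintype.card F) r := by
  set q := Fintype.card F with hq
  have h1 : 1 < q := Fintype.one_lt_card
  have hcard : Nat.card (GL (Fin n) F) = q ^ (∑ i : Fin n, (i : ℕ)) * ∏ i ∈ Finset.Icc 1 n, (q ^ i - 1) := by
    rw [Matrix.card_GL_field, ← Finset.prod_pow_eq_pow_sum]
    have e : ∏ i ∈ Finset.Icc 1 n, (q ^ i - 1) = ∏ i : Fin n, (q ^ (n - (i : ℕ)) - 1) := by
      refine Finset.prod_bij' (fun i hi => (⟨n - i, by simp at hi; omega⟩ : Fin n))
        (fun i _ => n - (i : ℕ)) (by simp) (fun i _ => by simp; omega) ?_ ?_ ?_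
      · intro i hi; simp at hi ⊢; omega
      · intro i _; ext; simp; omega
      · intro i hi; simp at hi ⊢; rw [show n - (n - i) = i by omega]
    rw [e, ← Finset.prod_mul_distrib]
    refine Finset.prod_congr rfl fun i _ => ?_
    rw [Nat.mul_sub, mul_one, ← pow_add, Nat.add_sub_cancel' i.2.le]
  have hpos : ∀ i ∈ Finset.Icc 1 n, q ^ i - 1 ≠ 0 := fun i hi =>
    Nat.sub_ne_zero_of_lt (Nat.one_lt_pow (by simp at hi; omega) h1)
  rw [hcard, padicValNat.mul (pow_ne_zero _ (by omega)) (Finset.prod_ne_zero_iff.2 hpos),
    padicValNat.eq_zero_of_not_dvd (not_dvd_pow hrq _), zero_add,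
    padicValNat_prod h1 hrq _ (fun i hi h => ?_) (fun hr2 i hi => ?_), card_filter_multiples]
  · have := Nat.le_of_dvd (by simp at hi; omega) h
    simp at hi
    omega
  · simp at hi ⊢
    omega

/-- A homocyclic subgroup of the general linear group. -/
theorem exists_gl_hom {n : ℕ} (hrq : ¬ r ∣ Fintype.card F) :
    ∃ φ : (Fin (n / orderOf (Fintype.card F : ZMod r)) →
        Multiplicative (ZMod (r ^ cycExp (Fintype.card F) r))) →* GL (Fin n) F, Function.Injective φ := by
  classical
  set q := Fintype.card F with hq
  set d := orderOf (q : ZMod r) with hd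
  have hd0 : 0 < d := Arith.orderOf_natCast_pos hrq
  haveI : NeZero d := ⟨hd0.ne'⟩
  obtain ⟨p, hp⟩ := CharP.exists F
  obtain ⟨-, hpp, -⟩ := FiniteField.card F p
  haveI := Fact.mk hpp
  let K := FiniteField.Extension F p d
  have hK : finrank F K = d := FiniteField.finrank_extension F p d
  obtain ⟨f, hf⟩ := exists_zmod_hom_units (K := K) (M := r ^ cycExp q r) (by
    rw [FiniteField.natCard_extension, Nat.card_eq_fintype_card, cycExp_eq Fintype.one_lt_card hrq]
    exact pow_padicValNat_dvd)
  set k := n / d with hk
  let A := (Fin k → K) × (Fin (n - k * d) → F)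
  have hfin : finrank F A = n := by
    rw [Module.finrank_prod, Module.finrank_pi_fintype, Module.finrank_fin_fun]
    simp only [hK, Finset.sum_const, Finset.card_univ, Fintype.card_fin, smul_eq_mul]
    have : k * d ≤ n := Nat.div_mul_le_self n d
    omega
  let b := Module.finBasisOfFinrankEq F A hfin
  let u : (Fin k → Multiplicative (ZMod (r ^ cycExp q r))) →* Aˣ :=
    MonoidHom.toHomUnits
      { toFun := fun x => ((fun i => (f (x i) : K)), 1)
        map_one' := Prod.ext (funext fun i => by simp) rfl
        map_mul' := fun x y => Prod.ext (funext fun i => show (f (x i * y i) : K) = f (x i) * f (y i) by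
          rw [map_mul, Units.val_mul]) (one_mul (1 : Fin (n - k * d) → F)).symm }
  refine ⟨(Units.map (Algebra.leftMulMatrix b).toRingHom.toMonoidHom).comp u, ?_⟩
  intro x y h
  have h' := Algebra.leftMulMatrix_injective b (congrArg Units.val h)
  funext i
  exact hf (Units.ext (congrFun (congrArg Prod.fst h') i))

theorem gl_sylow {n : ℕ} (hrn : n < r) (hrq : ¬ r ∣ Fintype.card F) (P : Sylow r (GL (Fin n) F)) :
    Nonempty (↥(P : Subgroup (GL (Fin n) F)) ≃*
      (Fin (n / orderOf (Fintype.card F : ZMod r)) →
        Multiplicative (ZMod (r ^ cycExp (Fintype.card F) r)))) := by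
  obtain ⟨φ, hφ⟩ := exists_gl_hom (F := F) (r := r) (n := n) hrq
  exact sylow_equiv P φ hφ (by rw [card_pi_zmod, padicValNat_card_gl hrn hrq])

theorem card_sl_mul {n : ℕ} (hn : 1 ≤ n) :
    Nat.card (Matrix.SpecialLinearGroup (Fin n) F) * (Fintype.card F - 1) = Nat.card (GL (Fin n) F) := by
  classical
  let det : GL (Fin n) F →* Fˣ := Matrix.GeneralLinearGroup.det
  have hsurj : Function.Surjective det := fun c => by
    let v : Fin n → F := Function.update 1 ⟨0, hn⟩ (c : F)
    have hv : (Matrix.diagonal v).det = c := by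
      rw [Matrix.det_diagonal, Finset.prod_update_of_mem (Finset.mem_univ _)]
      simp
    exact ⟨Matrix.GeneralLinearGroup.mkOfDetNeZero (Matrix.diagonal v) (by rw [hv]; exact c.ne_zero), Units.ext hv⟩
  have hker : (Matrix.SpecialLinearGroup.toGL : Matrix.SpecialLinearGroup (Fin n) F →* GL (Fin n) F).range = det.ker := by
    ext g
    constructor
    · rintro ⟨s, rfl⟩
      exact Units.ext s.2
    · intro hg
      exact ⟨⟨(g : Matrix (Fin n) (Fin n) F), congrArg Units.val hg⟩, Units.ext rfl⟩
  rw [← Subgroup.card_mul_index det.ker, Subgroup.index_ker, MonoidHom.range_eq_top.2 hsurj,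
    Subgroup.card_top, Nat.card_units, Nat.card_eq_fintype_card (α := F), ← hker,
    ← Nat.card_congr (MonoidHom.ofInjective Matrix.SpecialLinearGroup.toGL_injective).toEquiv]

theorem sl_sylow {n : ℕ} (hrn : n < r) (hrq : ¬ r ∣ Fintype.card F)
    (P : Sylow r (Matrix.SpecialLinearGroup (Fin n) F)) :
    Nonempty (↥(P : Subgroup (Matrix.SpecialLinearGroup (Fin n) F)) ≃*
      (Fin ((Finset.Icc 2 n).filter (fun i => orderOf (Fintype.card F : ZMod r) ∣ i)).card →
        Multiplicative (ZMod (r ^ cycExp (Fintype.card F) r)))) := by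
  classical
  set q := Fintype.card F with hq
  set d := orderOf (q : ZMod r) with hd
  have h1 : 1 < q := Fintype.one_lt_card
  have hr : r.Prime := Fact.out
  set c := ((Finset.Icc 2 n).filter (fun i => d ∣ i)).card with hc
  rcases Nat.eq_zero_or_pos n with rfl | hn
  · have hc0 : c = 0 := by simp [hc]
    rw [hc0]
    haveI : Unique (Matrix.SpecialLinearGroup (Fin 0) F) := ⟨⟨1⟩, fun a => Subsingleton.elim a 1⟩
    refine sylow_equiv P 1 (fun a b _ => Subsingleton.elim a b) ?_
    simp
  have hsplit : Finset.Icc 1 n = insert 1 (Finset.Icc 2 n) := by ext i; simp; omega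
  have hval : padicValNat r (Nat.card (Matrix.SpecialLinearGroup (Fin n) F)) = c * cycExp q r := by
    have h := congrArg (padicValNat r) (card_sl_mul (F := F) hn)
    rw [padicValNat.mul Nat.card_pos.ne' (by omega), padicValNat_card_gl hrn hrq,
      ← card_filter_multiples, hsplit, Finset.filter_insert] at h
    by_cases hd1 : d ∣ 1
    · rw [if_pos hd1, Finset.card_insert_of_notMem (by simp)] at h
      have hd' : d = 1 := Nat.dvd_one.1 hd1
      have e : cycExp q r = padicValNat r (q - 1) := by rw [cycExp_eq h1 hrq, ← hd, hd', pow_one]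
      rw [← hq, ← e, add_mul, one_mul] at h
      exact Nat.add_right_cancel h
    · rw [if_neg hd1, ← hq] at h
      have : padicValNat r (q - 1) = 0 := padicValNat.eq_zero_of_not_dvd fun h' => hd1
        ((Arith.dvd_pow_sub_one_iff_orderOf_dvd (by omega) 1).1 (by rwa [pow_one]))
      rw [this, add_zero] at h
      exact h
  have hmain : ∃ φ : (Fin c → Multiplicative (ZMod (r ^ cycExp q r))) →* Matrix.SpecialLinearGroup (Fin n) F,
      Function.Injective φ := by
    by_cases hd1 : d = 1
    · obtain ⟨f, hf⟩ := exists_zmod_hom_units (K := F) (M := r ^ cycExp q r) (by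
        rw [Nat.card_eq_fintype_card, cycExp_eq h1 hrq, ← hd, hd1, pow_one]
        exact pow_padicValNat_dvd)
      have hcn : c + 1 = n := by
        simp only [hc, hd1, one_dvd, Finset.filter_true, Nat.card_Icc]
        omega
      clear_value c
      subst hcn
      let v : (Fin c → Multiplicative (ZMod (r ^ cycExp q r))) → Fin (c + 1) → F := fun x =>
        Fin.cons (((∏ i, f (x i))⁻¹ : Fˣ) : F) fun i => (f (x i) : F)
      have hv : ∀ x, (Matrix.diagonal (v x)).det = 1 := fun x => by
        rw [Matrix.det_diagonal, Fin.prod_univ_succ]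
        simp only [v, Fin.cons_zero, Fin.cons_succ]
        rw [← Units.coe_prod, ← Units.val_mul, inv_mul_cancel, Units.val_one]
      refine ⟨{ toFun := fun x => ⟨Matrix.diagonal (v x), hv x⟩
                map_one' := Subtype.ext (by
                  show Matrix.diagonal (v 1) = 1
                  rw [← Matrix.diagonal_one]
                  congr 1
                  funext i
                  refine Fin.cases ?_ (fun j => ?_) i <;> simp [v])
                map_mul' := fun x y => Subtype.ext (by
                  show Matrix.diagonal (v (x * y)) = Matrix.diagonal (v x) * Matrix.diagonal (v y)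
                  rw [Matrix.diagonal_mul_diagonal]
                  congr 1
                  funext i
                  refine Fin.cases ?_ (fun j => ?_) i <;> simp [v, Finset.prod_mul_distrib, mul_comm]) }, ?_⟩
      intro x y h
      funext i
      have h' := congrFun (congrFun (congrArg Subtype.val h) i.succ) i.succ
      change Matrix.diagonal (v x) i.succ i.succ = Matrix.diagonal (v y) i.succ i.succ at h'
      simp only [Matrix.diagonal_apply_eq, v, Fin.cons_succ] at h'
      exact hf (Units.ext h')
    · have hkc : c = n / d := by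
        rw [← card_filter_multiples, hsplit, Finset.filter_insert, if_neg (by rwa [Nat.dvd_one])]
      obtain ⟨φ, hφ⟩ : ∃ φ : (Fin c → Multiplicative (ZMod (r ^ cycExp q r))) →* GL (Fin n) F,
          Function.Injective φ := by
        rw [hkc]
        exact exists_gl_hom hrq
      have hdet : ∀ x, Matrix.GeneralLinearGroup.det (φ x) = 1 := by
        intro x
        set z := Matrix.GeneralLinearGroup.det (φ x)
        have hz1 : z ^ (r ^ cycExp q r) = 1 := by
          rw [← map_pow, ← map_pow]
          have : x ^ (r ^ cycExp q r) = 1 := by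
            funext i
            rw [Pi.pow_apply, Pi.one_apply]
            have := pow_card_eq_one' (G := Multiplicative (ZMod (r ^ cycExp q r))) (x := x i)
            rwa [Nat.card_congr Multiplicative.toAdd, Nat.card_zmod] at this
          rw [this, map_one, map_one]
        have hz2 : z ^ (q - 1) = 1 := by
          have := pow_card_eq_one' (G := Fˣ) (x := z)
          rwa [Nat.card_units, Nat.card_eq_fintype_card (α := F), ← hq] at this
        have hco : (r ^ cycExp q r).Coprime (q - 1) := Nat.Coprime.pow_left _
          ((hr.coprime_iff_not_dvd).2 fun h' => hd1 (Nat.dvd_one.1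
            ((Arith.dvd_pow_sub_one_iff_orderOf_dvd (by omega) 1).1 (by rwa [pow_one]))))
        have := pow_gcd_eq_one.2 ⟨hz1, hz2⟩
        rwa [hco.gcd_eq_one, pow_one] at this
      refine ⟨{ toFun := fun x => ⟨(φ x : Matrix (Fin n) (Fin n) F), congrArg Units.val (hdet x)⟩
                map_one' := Subtype.ext (by simp)
                map_mul' := fun x y => Subtype.ext (congrArg Units.val (map_mul φ x y)) }, fun x y h => ?_⟩
      exact hφ (Units.ext (congrArg Subtype.val h :))
  obtain ⟨φ, hφ⟩ := hmain
  exact sylow_equiv P φ hφ (by rw [card_pi_zmod, hval])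

end Cfsg.Agent.SylowLarge
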