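import Cfsg.Agent.Arith.LTE

/-!
# Counting the large prime part of classical group orders
-/

set_option autoImplicit false

namespace Cfsg.Agent.SylowLarge

open Polynomial

/-- The exponent of `r` in the value of the cyclotomic polynomial of the order of `q`. -/
noncomputable def cycExp (q r : ℕ) : ℕ :=
  padicValNat r ((cyclotomic (orderOf (q : ZMod r)) ℤ).eval (q : ℤ)).natAbs

theorem cycExp_eq {q r : ℕ} [Fact r.Prime] (hq : 1 < q) (hrq : ¬ r ∣ q) :
    cycExp q r = padicValNat r (q ^ orderOf (q : ZMod r) - 1) :=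
  Arith.padicValNat_cyclotomic_orderOf hq hrq

theorem padicValNat_prod {q r : ℕ} [Fact r.Prime] (hq : 1 < q) (hrq : ¬ r ∣ q) (s : Finset ℕ)
    (hs : ∀ i ∈ s, ¬ r ∣ i) (h2 : r = 2 → s ⊆ {1}) :
    padicValNat r (∏ i ∈ s, (q ^ i - 1)) =
      (s.filter (fun i => orderOf (q : ZMod r) ∣ i)).card * cycExp q r := by
  rw [cycExp_eq hq hrq]
  by_cases hr2 : r = 2
  · subst hr2
    have hd : orderOf (q : ZMod 2) = 1 := Nat.dvd_one.1 (Arith.orderOf_natCast_dvd_sub_one hrq)
    rcases Finset.subset_singleton_iff.1 (h2 rfl) with rfl | rfl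
    · simp
    · rw [Finset.prod_singleton, Finset.filter_singleton, if_pos (hd ▸ dvd_rfl), Finset.card_singleton,
        one_mul, hd]
  · exact Arith.padicValNat_prod_pow_sub_one hr2 hq s hs

theorem card_filter_multiples (n d : ℕ) : ((Finset.Icc 1 n).filter (fun i => d ∣ i)).card = n / d := by
  rw [← Nat.Ioc_filter_dvd_card_eq_div]
  congr 1

end Cfsg.Agent.SylowLarge
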